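/-
Root elements of a symplectic group in characteristic two centred at one vector.
-/
import Cfsg.Agent.Lib.Transvec.ShortRoot

set_option autoImplicit false

namespace CfsgLib.SpFour

open Matrix CfsgLib.Transvec
open scoped MatrixGroups

variable {ι : Type} [Fintype ι] [DecidableEq ι] {F : Type*} [Field F] {f : (ι → F) → (ι → F) → F}

/-- For `w` orthogonal to `v`: the element `x ↦ x + f(x,v) (w + c v) + f(x,w) v`. -/
noncomputable def Rt (f : (ι → F) → (ι → F) → F) (v w : ι → F) (c : F) : GL ι F :=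
  sX f v w 1 * sT f v c

variable (hf : Cfsg.Geo.IsSymplecticForm f)

include hf

lemma Rt_mulVec {v w : ι → F} (hvw : f v w = 0) (c : F) (x : ι → F) :
    (Rt f v w c : Matrix ι ι F) *ᵥ x = x + f x v • w + f x w • v + (c * f x v) • v := by
  rw [Rt, mul_mulVec, sT_mulVec hf, sX_mulVec hf hvw]
  simp only [add_left' hf, smul_left' hf, hf.alternating, hvw]
  module

lemma iso_Rt (v w : ι → F) (c : F) : Iso f (Rt f v w c) := (iso_sX hf _ _ _).mul (iso_sT hf _ _)

lemma conj_Rt {g : GL ι F} (hg : Iso f g) (v w : ι → F) (c : F) :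
    g * Rt f v w c * g⁻¹ = Rt f ((g : Matrix ι ι F) *ᵥ v) ((g : Matrix ι ι F) *ᵥ w) c := by
  rw [Rt, Rt, ← conj_sX hf hg, ← conj_sT_iso hf hg]
  group

lemma Rt_mem_conj {M : Subgroup (GL ι F)} {g : GL ι F} (hgM : g ∈ M) (hg : Iso f g) {v w : ι → F} {c : F}
    (h : Rt f v w c ∈ M) : Rt f ((g : Matrix ι ι F) *ᵥ v) ((g : Matrix ι ι F) *ᵥ w) c ∈ M := by
  rw [← conj_Rt hf hg]
  exact M.mul_mem (M.mul_mem hgM h) (M.inv_mem hgM)

lemma sT_mem_conj {M : Subgroup (GL ι F)} {g : GL ι F} (hgM : g ∈ M) (hg : Iso f g) {v : ι → F} {c : F}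
    (h : sT f v c ∈ M) : sT f ((g : Matrix ι ι F) *ᵥ v) c ∈ M := by
  rw [← conj_sT_iso hf hg]
  exact M.mul_mem (M.mul_mem hgM h) (M.inv_mem hgM)

lemma Rt_zero (v : ι → F) (c : F) : Rt f v 0 c = sT f v c := gl_ext fun x => by
  rw [Rt_mulVec hf (zero_right' hf v), sT_mulVec hf, zero_right' hf]
  module

variable [CharP F 2]

omit hf in
lemma neg_vec (x : ι → F) : -x = x := funext fun _ => CharTwo.neg_eq _

omit hf in
lemma add_vec (x : ι → F) : x + x = 0 := funext fun _ => CharTwo.add_self_eq_zero _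

lemma form_comm (x y : ι → F) : f x y = f y x := by rw [hf.skew x y, CharTwo.neg_eq]

lemma Rt_mul {v w w' : ι → F} (hw : f v w = 0) (hw' : f v w' = 0) (c c' : F) :
    Rt f v w c * Rt f v w' c' = Rt f v (w + w') (c + c' + f w w') := gl_ext fun x => by
  have h1 : f w v = 0 := by rw [form_comm hf, hw]
  have h2 : f w' v = 0 := by rw [form_comm hf, hw']
  rw [mul_mulVec, Rt_mulVec hf hw, Rt_mulVec hf hw', Rt_mulVec hf (by rw [add_right' hf, hw, hw', add_zero])]
  simp only [add_left' hf, add_right' hf, smul_left' hf, hf.alternating, hw, h2, form_comm hf w' w]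
  module

lemma Rt_mul_sT {v w : ι → F} (hw : f v w = 0) (c c' : F) :
    Rt f v w c * sT f v c' = Rt f v w (c + c') := by
  rw [← Rt_zero hf, Rt_mul hf hw (zero_right' hf v), add_zero, zero_right' hf, add_zero]

lemma Rt_add_left {v v' w : ι → F} (hv : f v w = 0) (hv' : f v' w = 0) (c : F) :
    Rt f (v + v') w 0 * Rt f v w 0 * sT f w c = Rt f w v' (c + f v' v) := by
  rw [Rt, Rt, sT_zero hf, sT_zero hf, mul_one, mul_one, sX_comm hf (by rw [add_left' hf, hv, hv', add_zero]),
    sX_comm hf hv]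
  have e1 : sX f w (v + v') 1 = Rt f w (v + v') 0 := by rw [Rt, sT_zero hf, mul_one]
  have e2 : sX f w v 1 = Rt f w v 0 := by rw [Rt, sT_zero hf, mul_one]
  have hwv : f w v = 0 := by rw [form_comm hf, hv]
  have hwv' : f w v' = 0 := by rw [form_comm hf, hv']
  rw [e1, e2, Rt_mul hf (by rw [add_right' hf, hwv, hwv', add_zero]) hwv, show v + v' + v = v' + (v + v) by abel,
    add_vec, add_zero, Rt_mul_sT hf hwv']
  congr 1
  rw [add_left' hf, hf.alternating]
  ring

/-- A transvection at a sum of orthogonal vectors. -/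
lemma sT_add {a b : ι → F} (hab : f a b = 0) (k c : F) :
    sT f (b + k • a) c = sT f b c * Rt f a ((k * c) • b) (k ^ 2 * c) := gl_ext fun x => by
  have hba : f b a = 0 := by rw [form_comm hf, hab]
  rw [mul_mulVec, sT_mulVec hf, sT_mulVec hf, Rt_mulVec hf (by rw [smul_right' hf, hab, mul_zero])]
  simp only [add_left' hf, add_right' hf, smul_left' hf, smul_right' hf, hf.alternating, hab, hba]
  module

end CfsgLib.SpFour
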