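/-
Overgroups of `Sp₂(q²)` in `Sp₄(q)`, `q` even.
-/
import Cfsg.Agent.Lib.SpFour.Basic
import Cfsg.Agent.Lib.Transvec.Stabilizer

set_option autoImplicit false

namespace CfsgLib.SpFour

open Matrix CfsgLib.Transvec
open scoped MatrixGroups

variable {ι : Type} [Fintype ι] [DecidableEq ι] {F : Type*} [Field F] [CharP F 2]
  {f : (ι → F) → (ι → F) → F}

/-- A quadratic structure on a symplectic space, given by a self-adjoint root of `T² + T + δ`. -/
structure Quad2 (f : (ι → F) → (ι → F) → F) (J : (ι → F) →ₗ[F] (ι → F)) (δ : F) : Prop where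
  symp : Cfsg.Geo.IsSymplecticForm f
  sq : ∀ x, J (J x) = J x + δ • x
  adj : ∀ x y, f (J x) y = f x (J y)
  alt : ∀ x, f (J x) x = 0
  irr : ∀ t : F, t * t + t + δ ≠ 0

variable {J : (ι → F) →ₗ[F] (ι → F)} {δ : F}

/-- A root element linear over the quadratic structure. -/
noncomputable def Ug (f : (ι → F) → (ι → F) → F) (J : (ι → F) →ₗ[F] (ι → F)) (δ : F) (v : ι → F) (β γ : F) :
    GL ι F :=
  sT f v (γ * δ) * sT f (J v) γ * Rt f v (β • J v) β

namespace Quad2

variable (E : Quad2 f J δ)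
include E

lemma det_ne {p s : F} (h : p ≠ 0 ∨ s ≠ 0) : s * s + p * s + δ * (p * p) ≠ 0 := by
  intro h0
  by_cases hp : p = 0
  · subst hp
    rw [zero_mul, mul_zero, add_zero, mul_zero, add_zero, mul_self_eq_zero] at h0
    exact (h.resolve_left (by simp)) h0
  · refine E.irr (s / p) ?_
    field_simp
    linear_combination h0

lemma fvJ (v : ι → F) : f v (J v) = 0 := by rw [← E.adj, E.alt]

lemma ne_smul {x : ι → F} (hx : x ≠ 0) (c : F) : J x ≠ c • x := by
  intro h
  have h1 := E.sq x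
  rw [h, map_smul, h, smul_smul, ← add_smul] at h1
  have h2 := smul_left_injective F hx h1
  refine E.irr c ?_
  linear_combination h2 + (c + δ) * CharTwo.two_eq_zero (R := F)

lemma Ug_mulVec (v : ι → F) (β γ : F) (x : ι → F) :
    (Ug f J δ v β γ : Matrix ι ι F) *ᵥ x =
      x + f x v • ((β + γ * δ) • v + β • J v) + f x (J v) • (β • v + γ • J v) := by
  have h0 : f (J v) v = 0 := E.alt v
  rw [Ug, mul_mulVec, mul_mulVec, Rt_mulVec E.symp (by rw [smul_right' E.symp, E.fvJ, mul_zero]),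
    sT_mulVec E.symp, sT_mulVec E.symp]
  simp only [add_left' E.symp, smul_left' E.symp, smul_right' E.symp, E.symp.alternating, h0, E.fvJ]
  module

lemma iso_Ug (v : ι → F) (β γ : F) : Iso f (Ug f J δ v β γ) :=
  ((iso_sT E.symp _ _).mul (iso_sT E.symp _ _)).mul (iso_Rt E.symp _ _ _)

lemma Ug_comm (v : ι → F) (β γ : F) (x : ι → F) :
    (Ug f J δ v β γ : Matrix ι ι F) *ᵥ J x = J ((Ug f J δ v β γ : Matrix ι ι F) *ᵥ x) := by
  rw [E.Ug_mulVec, E.Ug_mulVec]
  simp only [map_add, map_smul, E.adj, E.sq, add_right' E.symp, smul_right' E.symp]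
  match_scalars
  · ring
  · linear_combination (β * f x (J v)) * CharTwo.two_eq_zero (R := F)
  · linear_combination (-(β * f x v)) * CharTwo.two_eq_zero (R := F)

/-- A vector orthogonal to a line of the structure lies in it. -/
lemma mem_of_perp (h4 : Fintype.card ι = 4) {a v : ι → F} (hv : v ≠ 0) (h1 : f a v = 0) (h2 : f a (J v) = 0) :
    ∃ c d : F, a = c • v + d • J v := by
  have hind : LinearIndependent F ![v, J v] :=
    (LinearIndependent.pair_iff' hv).mpr fun c e => E.ne_smul hv c e.symm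
  have hd : Module.finrank F (Submodule.span F (Set.range ![v, J v])) = 2 := by
    rw [finrank_span_eq_card hind, Fintype.card_fin]
  rw [Matrix.range_cons, Matrix.range_cons, Matrix.range_empty, Set.union_empty, Set.singleton_union] at hd
  have hmem : ∀ y, (f y v = 0 ∧ f y (J v) = 0) ↔ y ∈ perp E.symp (Submodule.span F {v, J v}) := by
    intro y
    rw [mem_perp_iff E.symp]
    refine ⟨fun h w hw => ?_, fun h => ⟨h v (Submodule.subset_span (by simp)), h _ (Submodule.subset_span (by simp))⟩⟩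
    obtain ⟨c, d, rfl⟩ := Submodule.mem_span_pair.mp hw
    rw [add_right' E.symp, smul_right' E.symp, smul_right' E.symp, h.1, h.2]; ring
  have hle : Submodule.span F {v, J v} ≤ perp E.symp (Submodule.span F {v, J v}) := by
    rw [Submodule.span_le]
    rintro y (rfl | rfl)
    · exact (hmem y).mp ⟨E.symp.alternating y, E.fvJ y⟩
    · exact (hmem _).mp ⟨E.alt v, E.symp.alternating _⟩
  have heq := Submodule.eq_of_le_of_finrank_eq hle (by rw [finrank_perp E.symp, hd, h4])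
  obtain ⟨c, d, h⟩ := Submodule.mem_span_pair.mp (heq.symm ▸ (hmem a).mp ⟨h1, h2⟩)
  exact ⟨c, d, h.symm⟩

variable {M : Subgroup (GL ι F)}
  (hM : ∀ g : GL ι F, Iso f g → (∀ x, (g : Matrix ι ι F) *ᵥ J x = J ((g : Matrix ι ι F) *ᵥ x)) → g ∈ M)
include hM

lemma Ug_mem (v : ι → F) (β γ : F) : Ug f J δ v β γ ∈ M := hM _ (E.iso_Ug v β γ) (E.Ug_comm v β γ)

lemma move_off (h4 : Fintype.card ι = 4) {a x : ι → F} (ha : a ≠ 0)
    (hx : x ∉ Submodule.span F ({a, J a} : Set (ι → F))) :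
    ∃ h ∈ M, Iso f h ∧ (h : Matrix ι ι F) *ᵥ a = x := by
  obtain ⟨v, hvd⟩ : ∃ v, v = a + x := ⟨_, rfl⟩
  have hxv : x = a + v := by rw [hvd, ← add_assoc, add_vec, zero_add]
  have hps : f a v ≠ 0 ∨ f a (J v) ≠ 0 := by
    by_contra hcon
    simp only [not_or, not_not] at hcon
    have hv : v ≠ 0 := fun e => hx (by rw [hxv, e, add_zero]; exact Submodule.subset_span (by simp))
    obtain ⟨c, d, hcd⟩ := E.mem_of_perp h4 hv hcon.1 hcon.2
    obtain ⟨D, hD⟩ : ∃ D, D = (c + d) * (c + d) + d * (c + d) + δ * (d * d) := ⟨_, rfl⟩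
    have hD0 : D ≠ 0 := hD ▸ E.det_ne (by
      by_cases hd : d = 0
      · refine Or.inr fun e => ha ?_
        rw [hd, add_zero] at e
        rw [hcd, hd, e, zero_smul, zero_smul, add_zero]
      · exact Or.inl hd)
    have e : (c + d) • a + d • J a = D • v := by
      rw [hcd, hD, map_add, map_smul, map_smul, E.sq]
      match_scalars
      · linear_combination (-(d * c + d * d)) * CharTwo.two_eq_zero (R := F)
      · linear_combination (d * c + d * d) * CharTwo.two_eq_zero (R := F)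
    refine hx (hxv ▸ Submodule.add_mem _ (Submodule.subset_span (by simp)) ?_)
    rw [← inv_smul_smul₀ hD0 v, ← e]
    exact Submodule.smul_mem _ _ (Submodule.mem_span_pair.mpr ⟨_, _, rfl⟩)
  obtain ⟨D, hD⟩ : ∃ D, D = f a (J v) * f a (J v) + f a v * f a (J v) + δ * (f a v * f a v) := ⟨_, rfl⟩
  have hD0 : D ≠ 0 := hD ▸ E.det_ne hps
  refine ⟨_, E.Ug_mem hM v (f a (J v) / D) (f a v / D), E.iso_Ug _ _ _, ?_⟩
  rw [E.Ug_mulVec, hxv]
  match_scalars
  · ring
  · field_simp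
    linear_combination -hD
  · field_simp
    linear_combination (f a v * f a (J v)) * CharTwo.two_eq_zero (R := F)

lemma move (h4 : Fintype.card ι = 4) {a x : ι → F} (ha : a ≠ 0) (hx : x ≠ 0) :
    ∃ h ∈ M, Iso f h ∧ (h : Matrix ι ι F) *ᵥ a = x := by
  have htop : ∀ y : ι → F, Submodule.span F ({y, J y} : Set (ι → F)) ≠ ⊤ := fun y e => by
    classical
    have h1 := finrank_span_le_card (R := F) ({y, J y} : Set (ι → F))
    rw [e, finrank_top, Module.finrank_fintype_fun_eq_card, Set.toFinset_insert, Set.toFinset_singleton, h4] at h1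
    have h2 : ({y, J y} : Finset (ι → F)).card ≤ 2 := Finset.card_le_two
    omega
  obtain ⟨y₁, hy₁⟩ := SetLike.exists_not_mem_of_ne_top _ (htop a)
  obtain ⟨y₂, hy₂⟩ := SetLike.exists_not_mem_of_ne_top _ (htop x)
  obtain ⟨z, hza, hzx⟩ : ∃ z, z ∉ Submodule.span F ({a, J a} : Set (ι → F)) ∧
      z ∉ Submodule.span F ({x, J x} : Set (ι → F)) := by
    by_cases h1 : y₁ ∈ Submodule.span F ({x, J x} : Set (ι → F))
    · by_cases h2 : y₂ ∈ Submodule.span F ({a, J a} : Set (ι → F))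
      · exact ⟨y₁ + y₂, fun h => hy₁ ((Submodule.add_mem_iff_left _ h2).mp h),
          fun h => hy₂ ((Submodule.add_mem_iff_right _ h1).mp h)⟩
      · exact ⟨y₂, h2, hy₂⟩
    · exact ⟨y₁, hy₁, h1⟩
  obtain ⟨h₁, hm₁, hi₁, he₁⟩ := E.move_off hM h4 ha hza
  obtain ⟨h₂, hm₂, hi₂, he₂⟩ := E.move_off hM h4 hx hzx
  exact ⟨h₂⁻¹ * h₁, M.mul_mem (M.inv_mem hm₂) hm₁, hi₂.inv.mul hi₁, by
    rw [mul_mulVec, he₁, ← he₂, inv_mulVec_cancel]⟩

/-- An isometry of the overgroup not keeping the lines of the structure gives every transvection. -/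
theorem full_of_move [Finite F] (h4 : Fintype.card ι = 4) {c₀ : F} (hc0 : c₀ ≠ 0) (hc1 : c₀ ≠ 1) {g : GL ι F}
    (hgM : g ∈ M) (hg : Iso f g) {v : ι → F}
    (hv : (g : Matrix ι ι F) *ᵥ J v ∉
      Submodule.span F ({(g : Matrix ι ι F) *ᵥ v, J ((g : Matrix ι ι F) *ᵥ v)} : Set (ι → F))) :
    ∀ x, Full f M x := by
  obtain ⟨a, ha⟩ : ∃ a, a = (g : Matrix ι ι F) *ᵥ v := ⟨_, rfl⟩
  obtain ⟨b, hb⟩ : ∃ b, b = (g : Matrix ι ι F) *ᵥ J v := ⟨_, rfl⟩
  rw [← ha, ← hb] at hv
  have ha0 : a ≠ 0 := fun e => by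
    have : v = 0 := mulVec_injective g (by simp [← ha, e])
    exact hv (by rw [hb, this, map_zero, mulVec_zero]; exact Submodule.zero_mem _)
  have hab : f a b = 0 := by rw [ha, hb, hg, E.fvJ]
  have hba : f b a = 0 := by rw [form_comm E.symp, hab]
  obtain ⟨e, he⟩ : ∃ e, e = f (J a) b := ⟨_, rfl⟩
  have he0 : e ≠ 0 := fun h0 => by
    obtain ⟨c, d, hcd⟩ := E.mem_of_perp h4 ha0 hba (by rw [form_comm E.symp, ← he, h0])
    exact hv (hcd ▸ Submodule.mem_span_pair.mpr ⟨c, d, rfl⟩)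
  -- the conjugate root elements
  have hK : sT f a δ * sT f b 1 ∈ M := by
    have h := M.mul_mem (M.mul_mem hgM (E.Ug_mem hM v 0 1)) (M.inv_mem hgM)
    rw [Ug, zero_smul, Rt_zero E.symp, sT_zero E.symp, mul_one, one_mul,
      show g * (sT f v δ * sT f (J v) 1) * g⁻¹ = (g * sT f v δ * g⁻¹) * (g * sT f (J v) 1 * g⁻¹) by group,
      conj_sT_iso E.symp hg, conj_sT_iso E.symp hg, ← ha, ← hb] at h
    exact h
  have hR2 : ∀ β, Rt f a (β • b) β ∈ M := by
    intro β
    have h := E.Ug_mem hM v β 0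
    rw [Ug, zero_mul, sT_zero E.symp, sT_zero E.symp, one_mul, one_mul] at h
    have h2 := Rt_mem_conj E.symp hgM hg h
    rwa [mulVec_smul, ← ha, ← hb] at h2
  have hR1 : ∀ β, Rt f a (β • J a) β ∈ M := by
    intro β
    have h := E.Ug_mem hM a β 0
    rwa [Ug, zero_mul, sT_zero E.symp, sT_zero E.symp, one_mul, one_mul] at h
  obtain ⟨β, hβ⟩ : ∃ β, β = c₀ / e := ⟨_, rfl⟩
  have hKa : ((sT f a δ * sT f b 1 : GL ι F) : Matrix ι ι F) *ᵥ a = a := by
    rw [mul_mulVec, sT_fix E.symp hab, sT_fix E.symp (E.symp.alternating a)]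
  have hKJ : ((sT f a δ * sT f b 1 : GL ι F) : Matrix ι ι F) *ᵥ (β • J a) = β • J a + (β * e) • b := by
    rw [mulVec_smul, mul_mulVec, sT_mulVec E.symp (v := b), one_mul, ← he, sT_mulVec E.symp, add_left' E.symp,
      E.alt, smul_left' E.symp, hba, mul_zero, add_zero, mul_zero, zero_smul, add_zero, smul_add, smul_smul]
  have h3 := Rt_mem_conj E.symp hK ((iso_sT E.symp _ _).mul (iso_sT E.symp _ _)) (hR1 β)
  rw [hKa, hKJ] at h3
  have h12 := M.mul_mem (hR1 β) (hR2 (β * e))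
  have p1 : f a (β • J a) = 0 := by rw [smul_right' E.symp, E.fvJ, mul_zero]
  have p2 : f a ((β * e) • b) = 0 := by rw [smul_right' E.symp, hab, mul_zero]
  rw [Rt_mul E.symp p1 p2] at h12
  have h4' := M.mul_mem h3 h12
  rw [Rt_mul E.symp (by rw [add_right' E.symp, p1, p2, add_zero]) (by rw [add_right' E.symp, p1, p2, add_zero]),
    add_vec, Rt_zero E.symp, E.symp.alternating, add_zero, smul_left' E.symp, smul_right' E.symp, ← he] at h4'
  obtain ⟨τ, hτ⟩ : ∃ τ, τ = c₀ * (1 + c₀) := ⟨_, rfl⟩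
  have hτ0 : τ ≠ 0 := hτ ▸ mul_ne_zero hc0 (fun h => hc1 (CharTwo.add_eq_zero.mp h).symm)
  have hmem : sT f a τ ∈ M := by
    convert h4' using 2
    rw [hτ, hβ]
    field_simp
    linear_combination (-1 : F) * CharTwo.two_eq_zero (R := F)
  intro x d
  haveI := Fintype.ofFinite F
  by_cases hd : d = 0
  · rw [hd, sT_zero E.symp]; exact M.one_mem
  by_cases hx : x = 0
  · exact hx ▸ full_zero E.symp d
  obtain ⟨r, hr⟩ := FiniteField.isSquare_of_char_two (ringChar.eq F 2) (d / τ)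
  have hr0 : r ≠ 0 := by rintro rfl; simp [hd, hτ0] at hr
  obtain ⟨h, hh, hi, hha⟩ := E.move hM h4 ha0 (smul_ne_zero hr0 hx)
  have := sT_mem_conj E.symp hh hi hmem
  rwa [hha, sT_smul E.symp, show r ^ 2 * τ = d by rw [pow_two, ← hr, div_mul_cancel₀ d hτ0]] at this

end Quad2

end CfsgLib.SpFour
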