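/-
Overgroups of `Sp₄(q₀)` in `Sp₄(q)`, `q` even.
-/
import Cfsg.Agent.Lib.SpFour.Basic
import Cfsg.Agent.Lib.Transvec.SpSubfield
import Cfsg.Agent.Lib.Transvec.Stabilizer

set_option autoImplicit false
set_option linter.all false

namespace CfsgLib.SpFour

open Matrix CfsgLib.Transvec CfsgLib.Transvec.SpSubfield
open scoped MatrixGroups

variable {ι : Type} [Fintype ι] [DecidableEq ι] {F : Type*} [Field F] [CharP F 2]
  {f : (ι → F) → (ι → F) → F}

section Generic

variable (hf : Cfsg.Geo.IsSymplecticForm f) {M : Subgroup (GL ι F)}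
include hf

lemma Rt_add_smul_self {v w : ι → F} (hvw : f v w = 0) (k c : F) : Rt f v (w + k • v) c = Rt f v w c :=
  gl_ext fun x => by
    rw [Rt_mulVec hf (by rw [add_right' hf, smul_right' hf, hvw, hf.alternating, mul_zero, add_zero]),
      Rt_mulVec hf hvw, add_right' hf, smul_right' hf]
    match_scalars <;> first
      | ring1
      | linear_combination (k * f x v) * CharTwo.two_eq_zero (R := F)

/-- The two ways of writing an element of the radical of a totally singular plane. -/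
lemma Rt_flip {S U : ι → F} (hSU : f S U = 0) (α β γ : F) :
    Rt f S (γ • U) β * sT f U α = Rt f U (γ • S) α * sT f S β := gl_ext fun x => by
  have hUS : f U S = 0 := by rw [form_comm hf, hSU]
  rw [mul_mulVec, mul_mulVec, Rt_mulVec hf (by rw [smul_right' hf, hSU, mul_zero]),
    Rt_mulVec hf (by rw [smul_right' hf, hUS, mul_zero]), sT_mulVec hf, sT_mulVec hf]
  simp only [add_left' hf, smul_left' hf, smul_right' hf, hf.alternating, hSU, hUS]
  module

/-- Shearing such an element. -/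
lemma shear_mem {S U : ι → F} (hSU : f S U = 0) {α β γ : F} (hY : Rt f S (γ • U) β * sT f U α ∈ M)
    {h : GL ι F} (hh : h ∈ M) (hi : Iso f h) (hS : (h : Matrix ι ι F) *ᵥ S = S)
    (hU : (h : Matrix ι ι F) *ᵥ U = U + S) : Rt f S (α • U) α ∈ M := by
  have h1 := M.mul_mem (M.mul_mem hh hY) (M.inv_mem hh)
  rw [show h * (Rt f S (γ • U) β * sT f U α) * h⁻¹ = (h * Rt f S (γ • U) β * h⁻¹) * (h * sT f U α * h⁻¹) by group,
    conj_Rt hf hi, conj_sT_iso hf hi, mulVec_smul, hS, hU, smul_add,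
    Rt_add_smul_self hf (by rw [smul_right' hf, hSU, mul_zero]),
    show U + S = U + (1 : F) • S by rw [one_smul], sT_add hf hSU, one_mul, one_pow, one_mul, ← mul_assoc] at h1
  exact (M.mul_mem_cancel_left hY).mp h1

end Generic

variable {F₀ : Subfield F} {P : GL ι F} (hf : Cfsg.Geo.IsSymplecticForm f)
  (hR : ∀ u v : ι → F₀, f (rv P u) (rv P v) ∈ F₀)

/-- An ordered pair spanning a totally singular rational plane. -/
def RPair (s u : ι → F₀) : Prop := rForm hR s u = 0 ∧ s ∉ Submodule.span F₀ {u} ∧ u ≠ 0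

include hf

lemma RPair.symm {s u : ι → F₀} (h : RPair hR s u) : RPair hR u s := by
  have hs : s ≠ 0 := fun e => h.2.1 (e ▸ Submodule.zero_mem _)
  refine ⟨?_, fun hm => ?_, hs⟩
  · rw [(isSymplectic_rForm hf hR).skew, h.1, neg_zero]
  · obtain ⟨c, hc⟩ := Submodule.mem_span_singleton.mp hm
    have hc0 : c ≠ 0 := fun e => h.2.2 (by rw [← hc, e, zero_smul])
    exact h.2.1 (Submodule.mem_span_singleton.mpr ⟨c⁻¹, by rw [← hc, inv_smul_smul₀ hc0]⟩)

omit [CharP F 2] in
lemma RPair.form {s u : ι → F₀} (h : RPair hR s u) : f (rv P s) (rv P u) = 0 := congrArg Subtype.val h.1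

include hR in
omit [CharP F 2] in
/-- A centre all of whose products are rational up to one scalar is rational. -/
lemma exists_ratio_notMem {v : ι → F} (hv : ∀ (l : F) (r : ι → F₀), v ≠ l • rv P r) {l : F} (hl : l ≠ 0) :
    ∃ s : ι → F₀, f v (rv P s) / l ∉ F₀ := by
  by_contra hcon
  simp only [not_exists, not_not] at hcon
  have hB := isSymplectic_rForm hf hR
  obtain ⟨φ, hφ⟩ : ∃ φ : ι → F₀, ∀ j, (φ j : F) = f v (rv P (Pi.single j 1)) / l :=
    ⟨fun j => ⟨_, hcon (Pi.single j 1)⟩, fun _ => rfl⟩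
  obtain ⟨r, hr⟩ := fvec_surjective hB φ
  have hval : ∀ j, f (rv P (Pi.single j 1 : ι → F₀)) (rv P r) = f v (rv P (Pi.single j 1)) / l := fun j => by
    rw [← hφ, ← hr]; rfl
  refine hv (-l) r (sub_eq_zero.mp (eq_zero_of_rv (F₀ := F₀) (P := P) hf fun u => ?_))
  let T : (ι → F₀) →+ F :=
    { toFun := fun u => f (rv P u) (v - (-l) • rv P r)
      map_zero' := by rw [rv_zero, zero_left' hf]
      map_add' := fun x y => by rw [rv_add, add_left' hf] }
  change T u = 0
  rw [show u = ∑ j, u j • (Pi.single j 1 : ι → F₀) by funext i; simp [Finset.sum_apply, Pi.single_apply], map_sum]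
  refine Finset.sum_eq_zero fun j _ => ?_
  change f (rv P (u j • (Pi.single j 1 : ι → F₀))) (v - (-l) • rv P r) = 0
  rw [rv_smul, smul_left' hf, sub_right' hf, smul_right' hf, hval, hf.skew _ v]
  field_simp
  ring

variable (h4 : Fintype.card ι = 4)
include h4

omit [CharP F 2] in
/-- Two further vectors orthogonal to a given one. -/
lemma exists_pair_two {s : ι → F₀} (hs : s ≠ 0) :
    ∃ u₁ u₂, RPair hR s u₁ ∧ RPair hR s u₂ ∧ RPair hR s (u₁ + u₂) := by
  classical
  have hB := isSymplectic_rForm hf hR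
  obtain ⟨W, hW⟩ : ∃ W, W = perp hB (Submodule.span F₀ {s}) := ⟨_, rfl⟩
  have hW3 : Module.finrank F₀ W = 3 := by rw [hW, finrank_perp hB, finrank_span_singleton hs, h4]
  obtain ⟨u₁, h1, h1'⟩ := SetLike.not_le_iff_exists.mp (fun hle : W ≤ Submodule.span F₀ {s} => by
    have := Submodule.finrank_mono hle
    rw [hW3, finrank_span_singleton hs] at this
    omega)
  obtain ⟨u₂, h2, h2'⟩ := SetLike.not_le_iff_exists.mp (fun hle : W ≤ Submodule.span F₀ {s, u₁} => by
    have h := Submodule.finrank_mono hle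
    have h5 := finrank_span_le_card (R := F₀) ({s, u₁} : Set (ι → F₀))
    rw [Set.toFinset_insert, Set.toFinset_singleton] at h5
    have h6 : ({s, u₁} : Finset (ι → F₀)).card ≤ 2 := Finset.card_le_two
    omega)
  have key : ∀ u ∈ W, u ∉ Submodule.span F₀ {s} → RPair hR s u := fun u hu hu' => by
    refine ⟨?_, fun hm => ?_, fun e => hu' (e ▸ Submodule.zero_mem _)⟩
    · rw [hW, mem_perp_iff hB] at hu
      rw [hB.skew, hu s (Submodule.mem_span_singleton_self s), neg_zero]
    · obtain ⟨c, hc⟩ := Submodule.mem_span_singleton.mp hm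
      have hc0 : c ≠ 0 := fun e => hs (by rw [← hc, e, zero_smul])
      exact hu' (Submodule.mem_span_singleton.mpr ⟨c⁻¹, by rw [← hc, inv_smul_smul₀ hc0]⟩)
  refine ⟨u₁, u₂, key _ h1 h1', key _ h2 fun h => h2' (Submodule.span_mono (by simp) h),
    key _ (W.add_mem h1 h2) fun h => h2' ?_⟩
  have h7 := Submodule.span_mono (show ({s} : Set (ι → F₀)) ⊆ {s, u₁} by simp) h
  exact (Submodule.add_mem_iff_right _ (Submodule.subset_span (by simp : u₁ ∈ ({s, u₁} : Set (ι → F₀))))).mp h7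

variable {M : Subgroup (GL ι F)} (hM : ∀ h : GL ι F₀, Iso (rForm hR) h → subfieldHom F₀ P h ∈ M)
include hM

omit [CharP F 2] h4 in
lemma sT_rat (w : ι → F₀) (c : F₀) : sT f (rv P w) (c : F) ∈ M := by
  have hB := isSymplectic_rForm hf hR
  have e : subfieldHom F₀ P (sT (rForm hR) w c) = sT f (rv P w) (c : F) := gl_ext_rv (P := P) fun u => by
    rw [hom_rv, sT_mulVec hB, rv_add, rv_smul, sT_mulVec hf]; rfl
  rw [← e]
  exact hM _ (iso_sT hB w c)

omit h4 in
lemma Rt_rat {s u : ι → F₀} (h : RPair hR s u) : Rt f (rv P s) (rv P u) 0 ∈ M := by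
  have h1 := sT_rat hf hR hM
  have e : Rt f (rv P s) (rv P u) 0 =
      sT f (rv P (s + u)) ((1 : F₀) : F) * sT f (rv P s) (((-1 : F₀)) : F) * sT f (rv P u) ((-1 : F₀) : F) := by
    rw [Rt, sT_zero hf, mul_one, sX, rv_add]
    simp
  rw [e]
  exact M.mul_mem (M.mul_mem (h1 _ _) (h1 _ _)) (h1 _ _)

omit [CharP F 2] h4 in
lemma pair_move {s u s' u' : ι → F₀} (h : RPair hR s u) (h' : RPair hR s' u') :
    ∃ g ∈ M, Iso f g ∧ (g : Matrix ι ι F) *ᵥ rv P s = rv P s' ∧ (g : Matrix ι ι F) *ᵥ rv P u = rv P u' := by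
  have hB := isSymplectic_rForm hf hR
  have hall : ∀ w, Full (rForm hR) (M.comap (subfieldHom F₀ P)) w := fun w c => hM _ (iso_sT hB w c)
  obtain ⟨hsu, hs, hu⟩ := h
  obtain ⟨hsu', hs', hu'⟩ := h'
  obtain ⟨h₁, hh₁, hi₁, he₁, -⟩ := exists_move_fix hB hall (⊥ : Submodule F₀ (ι → F₀)) (v := u) (b := u')
    (by simpa using hu) (by simpa using hu')
    (fun e he => by rw [(Submodule.mem_bot F₀).mp he, zero_left' hB, zero_left' hB])
  have hb₁ : (h₁ : Matrix ι ι F₀) *ᵥ s ∉ Submodule.span F₀ {u'} := fun hm => by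
    obtain ⟨j, hj⟩ := Submodule.mem_span_singleton.mp hm
    refine hs (Submodule.mem_span_singleton.mpr ⟨j, mulVec_injective h₁ ?_⟩)
    simp only [mulVec_smul, he₁, hj]
  obtain ⟨h₂, hh₂, hi₂, he₂, hfix₂⟩ := exists_move_fix hB hall (Submodule.span F₀ {u'})
    (v := (h₁ : Matrix ι ι F₀) *ᵥ s) (b := s') hb₁ hs' (fun e he => by
      obtain ⟨j, rfl⟩ := Submodule.mem_span_singleton.mp he
      rw [smul_left' hB, smul_left' hB, hB.skew u' s', hsu', neg_zero]
      conv_lhs => rw [← he₁, hi₁, hB.skew, hsu, neg_zero])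
  refine ⟨subfieldHom F₀ P (h₂ * h₁), Subgroup.mem_comap.mp (mul_mem hh₂ hh₁), iso_hom hf hR (hi₂.mul hi₁), ?_, ?_⟩
  · rw [hom_rv, mul_mulVec, he₂]
  · rw [hom_rv, mul_mulVec, he₁, hfix₂ u' (Submodule.mem_span_singleton_self u')]

/-- A short element gives the long one with the squared parameter. -/
lemma long_of_short {s u : ι → F₀} (h : RPair hR s u) {τ : F} (hτ : Rt f (rv P s) (τ • rv P u) 0 ∈ M) :
    sT f (rv P s) (τ ^ 2) ∈ M := by
  have hB := isSymplectic_rForm hf hR
  obtain ⟨g₁, hg₁, hg₁u⟩ := exists_perp_ne hB (W := Submodule.span F₀ {s}) (v := u) (RPair.symm hf hR h).2.1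
  obtain ⟨g, hgs, hgu⟩ : ∃ g, rForm hR g s = 0 ∧ rForm hR g u = 1 :=
    ⟨(rForm hR g₁ u)⁻¹ • g₁, by rw [smul_left' hB, hg₁ s (Submodule.mem_span_singleton_self s), mul_zero],
      by rw [smul_left' hB, inv_mul_cancel₀ hg₁u]⟩
  have hsg : RPair hR s g := by
    refine ⟨by rw [hB.skew, hgs, neg_zero], fun hm => ?_, fun e => ?_⟩
    · obtain ⟨c, hc⟩ := Submodule.mem_span_singleton.mp hm
      have h1 := h.1
      rw [← hc, smul_left' hB, hgu, mul_one] at h1
      exact h.2.1 (by rw [← hc, h1, zero_smul]; exact Submodule.zero_mem _)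
    · rw [e, zero_left' hB] at hgu
      exact zero_ne_one hgu
  obtain ⟨k, hk, hki, hks, hku⟩ := pair_move hf hR hM h hsg
  have h1 := Rt_mem_conj hf hk hki hτ
  rw [mulVec_smul, hks, hku] at h1
  have hgu' : f (rv P g) (rv P u) = 1 := congrArg Subtype.val hgu
  have hgs' : f (rv P g) (rv P s) = 0 := congrArg Subtype.val hgs
  have hsu' : f (rv P s) (rv P u) = 0 := h.form hf hR
  have hT : sT f (rv P g) 1 ∈ M := by simpa using sT_rat hf hR hM g 1
  have h2 := Rt_mem_conj hf hT (iso_sT hf _ _) hτ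
  rw [mulVec_smul, sT_fix hf (by rw [form_comm hf, hgs']), sT_mulVec hf, one_mul, form_comm hf (rv P u),
    hgu', one_smul, smul_add] at h2
  have p1 : f (rv P s) (τ • rv P u) = 0 := by rw [smul_right' hf, hsu', mul_zero]
  have p2 : f (rv P s) (τ • rv P g) = 0 := by rw [smul_right' hf, form_comm hf, hgs', mul_zero]
  have h3 := M.mul_mem (M.mul_mem hτ h1) h2
  rw [Rt_mul hf p1 p2, Rt_mul hf (by rw [add_right' hf, p1, p2, add_zero]) (by rw [add_right' hf, p1, p2, add_zero]),
    add_vec, Rt_zero hf, hf.alternating, smul_left' hf, smul_right' hf, form_comm hf (rv P u), hgu'] at h3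
  simpa [sq] using h3

variable {v : ι → F} (hvM : sT f v 1 ∈ M)
include hvM

/-- The elements produced from one transvection and a rational plane. -/
lemma plane_elts {s u : ι → F₀} (h : RPair hR s u) :
    Rt f (rv P s) ((f v (rv P s) ^ 4) • rv P u) (f v (rv P s) ^ 4) ∈ M ∧
      Rt f (rv P s) ((f v (rv P s) ^ 2 *
        (f v (rv P s) ^ 2 + f v (rv P s) * f v (rv P u) + f v (rv P u) ^ 2 + 1)) • rv P u) 0 ∈ M := by
  have hB := isSymplectic_rForm hf hR
  obtain ⟨S, hS⟩ : ∃ S, S = rv P s := ⟨_, rfl⟩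
  obtain ⟨U, hU⟩ : ∃ U, U = rv P u := ⟨_, rfl⟩
  obtain ⟨a, ha⟩ : ∃ a, a = f v S := ⟨_, rfl⟩
  obtain ⟨b, hb⟩ : ∃ b, b = f v U := ⟨_, rfl⟩
  rw [← hS, ← hU, ← ha, ← hb]
  have hSU : f S U = 0 := hS ▸ hU ▸ h.form hf hR
  have hUS : f U S = 0 := by rw [form_comm hf, hSU]
  obtain ⟨w, hw⟩ : ∃ w, w = a • U + b • S := ⟨_, rfl⟩
  have hvw : f v w = 0 := by
    rw [hw, add_right' hf, smul_right' hf, smul_right' hf, ← ha, ← hb, mul_comm a b, CharTwo.add_self_eq_zero]
  have hwv : f w v = 0 := by rw [form_comm hf, hvw]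
  have hX : Rt f S U 0 ∈ M := hS ▸ hU ▸ Rt_rat hf hR hM h
  have c1 := sT_mem_conj hf hX (iso_Rt hf _ _ _) hvM
  rw [Rt_mulVec hf hSU, ← ha, ← hb, zero_mul, zero_smul, add_zero, add_assoc, ← hw,
    show v + w = v + (1 : F) • w by rw [one_smul], sT_add hf hwv, one_mul, one_smul, one_pow, one_mul] at c1
  have hZ : Rt f w v 1 ∈ M := (M.mul_mem_cancel_left hvM).mp c1
  have hTS : sT f S 1 ∈ M := by simpa [hS] using sT_rat hf hR hM s 1
  have hwS : f w S = 0 := by
    rw [hw, add_left' hf, smul_left' hf, smul_left' hf, hUS, hf.alternating, mul_zero, mul_zero, add_zero]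
  have c2 := Rt_mem_conj hf hTS (iso_sT hf _ _) hZ
  rw [sT_fix hf hwS, sT_mulVec hf, one_mul, ← ha] at c2
  have c3 := M.mul_mem hZ c2
  rw [Rt_mul hf hwv (by rw [add_right' hf, smul_right' hf, hwv, hwS, mul_zero, add_zero]),
    show v + (v + a • S) = a • S + (v + v) by abel, add_vec, add_zero, add_right' hf, hf.alternating,
    smul_right' hf, ← ha, CharTwo.add_self_eq_zero, zero_add, zero_add] at c3
  obtain ⟨α, hα⟩ : ∃ α, α = a ^ 4 := ⟨_, rfl⟩
  obtain ⟨β, hβ⟩ : ∃ β, β = a ^ 2 * b ^ 2 := ⟨_, rfl⟩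
  obtain ⟨γ, hγ⟩ : ∃ γ, γ = a ^ 2 + a ^ 3 * b := ⟨_, rfl⟩
  have hY : Rt f S (γ • U) β * sT f U α ∈ M := by
    convert c3 using 1
    refine gl_ext fun x => ?_
    rw [mul_mulVec, Rt_mulVec hf (by rw [smul_right' hf, hSU, mul_zero]), sT_mulVec hf,
      Rt_mulVec hf (by rw [smul_right' hf, hwS, mul_zero]), hw]
    simp only [add_left' hf, add_right' hf, smul_left' hf, smul_right' hf, hf.alternating, hUS, hSU, hα, hβ, hγ]
    match_scalars <;> first
      | ring1
      | linear_combination (-(a * b * f x S)) * CharTwo.two_eq_zero (R := F)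
  -- moving inside the plane
  have hsh : RPair hR s (u + s) := by
    refine ⟨by rw [add_right' hB, h.1, hB.alternating, add_zero], fun hm => ?_, fun e => ?_⟩
    · obtain ⟨c, hc⟩ := Submodule.mem_span_singleton.mp hm
      rw [smul_add] at hc
      by_cases hc0 : c = 0
      · exact h.2.1 (by rw [← hc, hc0, zero_smul, zero_smul, add_zero]; exact Submodule.zero_mem _)
      · refine (RPair.symm hf hR h).2.1 (Submodule.mem_span_singleton.mpr ⟨c⁻¹ * (1 - c), ?_⟩)
        rw [mul_smul, sub_smul, one_smul, ← eq_sub_of_add_eq hc, inv_smul_smul₀ hc0]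
    · exact (RPair.symm hf hR h).2.1 (by rw [eq_neg_of_add_eq_zero_left e]
                                         exact Submodule.neg_mem _ (Submodule.mem_span_singleton_self s))
  obtain ⟨k₁, hk₁, hi₁, hk₁s, hk₁u⟩ := pair_move hf hR hM h hsh
  rw [rv_add] at hk₁u
  rw [← hS] at hk₁s
  rw [← hS, ← hU] at hk₁u
  have hPα : Rt f S (α • U) α ∈ M := shear_mem hf hSU hY hk₁ hi₁ hk₁s hk₁u
  refine ⟨hα ▸ hPα, ?_⟩
  obtain ⟨k₂, hk₂, hi₂, hk₂s, hk₂u⟩ := pair_move hf hR hM h (RPair.symm hf hR h)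
  rw [← hS, ← hU] at hk₂s hk₂u
  have hPα' : Rt f U (α • S) α ∈ M := by
    have := Rt_mem_conj hf hk₂ hi₂ hPα
    rwa [mulVec_smul, hk₂s, hk₂u] at this
  have hY' : Rt f U (γ • S) α * sT f S β ∈ M := Rt_flip hf hSU α β γ ▸ hY
  have hsh' : RPair hR u (s + u) := by
    refine ⟨by rw [add_right' hB, (RPair.symm hf hR h).1, hB.alternating, add_zero], fun hm => ?_, fun e => ?_⟩
    · obtain ⟨c, hc⟩ := Submodule.mem_span_singleton.mp hm
      rw [smul_add] at hc
      by_cases hc0 : c = 0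
      · exact h.2.2 (by rw [← hc, hc0, zero_smul, zero_smul, add_zero])
      · refine h.2.1 (Submodule.mem_span_singleton.mpr ⟨c⁻¹ * (1 - c), ?_⟩)
        rw [mul_smul, sub_smul, one_smul, ← eq_sub_of_add_eq hc, inv_smul_smul₀ hc0]
    · exact h.2.1 (by rw [eq_neg_of_add_eq_zero_left e]
                      exact Submodule.neg_mem _ (Submodule.mem_span_singleton_self u))
  obtain ⟨k₃, hk₃, hi₃, hk₃u, hk₃s⟩ := pair_move hf hR hM (RPair.symm hf hR h) hsh'
  rw [rv_add, ← hS, ← hU] at hk₃s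
  rw [← hU] at hk₃u
  have hPβ' : Rt f U (β • S) β ∈ M := shear_mem hf hUS hY' hk₃ hi₃ hk₃u hk₃s
  have hPβ : Rt f S (β • U) β ∈ M := by
    have := Rt_mem_conj hf hk₂ hi₂ hPβ'
    rwa [mulVec_smul, hk₂s, hk₂u] at this
  have h1 : Rt f S ((γ + α) • U) β ∈ M := by
    convert M.mul_mem hY hPα' using 1
    refine gl_ext fun x => ?_
    simp only [mul_mulVec, Rt_mulVec hf (show f S ((γ + α) • U) = 0 by rw [smul_right' hf, hSU, mul_zero]),
      Rt_mulVec hf (show f S (γ • U) = 0 by rw [smul_right' hf, hSU, mul_zero]),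
      Rt_mulVec hf (show f U (α • S) = 0 by rw [smul_right' hf, hUS, mul_zero]), sT_mulVec hf, add_left' hf,
      smul_left' hf, smul_right' hf, hf.alternating, hUS, hSU]
    match_scalars <;> first
      | ring1
      | linear_combination (-(α * f x U)) * CharTwo.two_eq_zero (R := F)
  have h2 := M.mul_mem h1 hPβ
  rw [Rt_mul hf (by rw [smul_right' hf, hSU, mul_zero]) (by rw [smul_right' hf, hSU, mul_zero]), ← add_smul,
    CharTwo.add_self_eq_zero, smul_left' hf, smul_right' hf, hf.alternating, mul_zero, mul_zero, zero_add,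
    hα, hβ, hγ] at h2
  convert h2 using 3
  ring

variable (hv : ∀ (l : F) (r : ι → F₀), v ≠ l • rv P r)
  (hgen : ∀ R : Subfield F, F₀ < R → R = ⊤)
include hv hgen

/-- A non-rational long parameter. -/
lemma exists_long [Finite F] : ∃ (s : ι → F₀) (c : F), s ≠ 0 ∧ c ∉ F₀ ∧ sT f (rv P s) c ∈ M := by
  haveI := Fintype.ofFinite F
  haveI : Fintype F₀ := Fintype.ofFinite F₀
  haveI : CharP F₀ 2 := CharTwo.of_one_ne_zero_of_two_eq_zero one_ne_zero (Subtype.ext CharTwo.two_eq_zero)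
  have hB := isSymplectic_rForm hf hR
  have hsqF : ∀ {c : F}, c ^ 2 ∈ F₀ → c ∈ F₀ := fun {c} hc => by
    obtain ⟨r, hr⟩ := FiniteField.isSquare_of_char_two (ringChar.eq F₀ 2) (⟨c ^ 2, hc⟩ : F₀)
    have hr' : c ^ 2 = (r : F) ^ 2 := by
      have := congrArg Subtype.val hr
      simpa [sq] using this
    rw [CharTwo.sq_injective hr']
    exact r.2
  have fin : ∀ {s u : ι → F₀} {τ : F}, RPair hR s u → τ ∉ F₀ → Rt f (rv P s) (τ • rv P u) 0 ∈ M →
      ∃ (s : ι → F₀) (c : F), s ≠ 0 ∧ c ∉ F₀ ∧ sT f (rv P s) c ∈ M := fun {s u τ} h hτ hm =>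
    ⟨s, τ ^ 2, (RPair.symm hf hR h).2.2, fun e => hτ (hsqF e), long_of_short hf hR h4 hM h hm⟩
  have hne : ∀ {s : ι → F₀}, f v (rv P s) ∉ F₀ → s ≠ 0 := fun {s} h e =>
    h (by rw [e, rv_zero, zero_right' hf]; exact zero_mem F₀)
  obtain ⟨s, hs⟩ := exists_ratio_notMem hf hR hv (l := (1 : F)) one_ne_zero
  rw [div_one] at hs
  by_cases hq : ∃ k : F₀, k ≠ 0 ∧ k ≠ 1
  · obtain ⟨k, hk0, hk1⟩ := hq
    obtain ⟨u, -, hu, -, -⟩ := exists_pair_two hf hR h4 (hne hs)
    have hku : RPair hR s (k • u) := ⟨by rw [smul_right' hB, hu.1, mul_zero],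
      by rw [Submodule.span_singleton_smul_eq (Ne.isUnit hk0)]; exact hu.2.1, smul_ne_zero hk0 hu.2.2⟩
    obtain ⟨α, hα⟩ : ∃ α, α = f v (rv P s) ^ 4 := ⟨_, rfl⟩
    have h1 := (plane_elts hf hR h4 hM hvM hu).1
    have h2 := (plane_elts hf hR h4 hM hvM hku).1
    rw [← hα] at h1 h2
    rw [rv_smul, smul_smul] at h2
    have h3 := M.mul_mem h1 h2
    rw [Rt_mul hf (by rw [smul_right' hf, hu.form hf hR, mul_zero]) (by rw [smul_right' hf, hu.form hf hR, mul_zero]),
      ← add_smul, smul_left' hf, smul_right' hf, hf.alternating, mul_zero, mul_zero, add_zero,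
      CharTwo.add_self_eq_zero] at h3
    refine fin hu (fun hm => hs (hsqF (hsqF ?_))) h3
    have hk2 : (1 + (k : F)) ≠ 0 := fun e => hk1 (Subtype.ext (CharTwo.add_eq_zero.mp e).symm)
    rw [← pow_mul, ← hα]
    have := div_mem hm (add_mem (one_mem F₀) k.2)
    rwa [show α + α * (k : F) = α * (1 + k) by ring, mul_div_cancel_right₀ _ hk2] at this
  simp only [not_exists, not_and, not_not] at hq
  have h01 : ∀ {c : F}, c ∈ F₀ → c = 0 ∨ c = 1 := fun {c} hc => by
    by_cases h0 : c = 0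
    · exact Or.inl h0
    · exact Or.inr (congrArg Subtype.val (hq ⟨c, hc⟩ fun e => h0 (congrArg Subtype.val e)))
  by_cases hall : ∀ x : F, x ^ 4 = x
  swap
  · -- a value outside the field of four elements
    obtain ⟨s, hs'⟩ : ∃ s : ι → F₀, f v (rv P s) ^ 4 ≠ f v (rv P s) := by
      by_contra hcon
      simp only [not_exists, not_not] at hcon
      refine hall ?_
      let E : Subfield F :=
        { carrier := {x | x ^ 4 = x}
          one_mem' := one_pow 4
          mul_mem' := fun {a b} (ha : a ^ 4 = a) (hb : b ^ 4 = b) => by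
            change (a * b) ^ 4 = a * b
            rw [mul_pow, ha, hb]
          zero_mem' := zero_pow (by norm_num)
          add_mem' := fun {a b} (ha : a ^ 4 = a) (hb : b ^ 4 = b) => by
            change (a + b) ^ 4 = a + b
            rw [show (4 : ℕ) = 2 * 2 by norm_num, pow_mul, CharTwo.add_sq, CharTwo.add_sq, ← pow_mul, ← pow_mul]
            exact congrArg₂ (· + ·) ha hb
          neg_mem' := fun {a} ha => by rw [CharTwo.neg_eq]; exact ha
          inv_mem' := fun a (ha : a ^ 4 = a) => by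
            change a⁻¹ ^ 4 = a⁻¹
            rw [inv_pow, ha] }
      have hE : F₀ < E := lt_of_le_not_ge (fun c hc => by
        rcases h01 hc with rfl | rfl
        · exact zero_mem E
        · exact one_mem E) fun hle => hs (hle (hcon s))
      intro x
      exact (hgen E hE ▸ Subfield.mem_top x : x ∈ E)
    have hs0 : s ≠ 0 := fun e => hs' (by rw [e, rv_zero, zero_right' hf, zero_pow (by norm_num)])
    obtain ⟨u₁, u₂, p₁, p₂, p₃⟩ := exists_pair_two hf hR h4 hs0
    have e₁ := (plane_elts hf hR h4 hM hvM p₁).2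
    have e₂ := (plane_elts hf hR h4 hM hvM p₂).2
    have e₃ := (plane_elts hf hR h4 hM hvM p₃).2
    by_contra hcon
    obtain ⟨a, ha⟩ : ∃ a, a = f v (rv P s) := ⟨_, rfl⟩
    rw [rv_add, add_right' hf] at e₃
    rw [← ha] at e₁ e₂ e₃ hs'
    obtain ⟨b₁, hb₁⟩ : ∃ b, b = f v (rv P u₁) := ⟨_, rfl⟩
    obtain ⟨b₂, hb₂⟩ : ∃ b, b = f v (rv P u₂) := ⟨_, rfl⟩
    rw [← hb₁, ← hb₂] at e₃
    rw [← hb₁] at e₁
    rw [← hb₂] at e₂
    have hin : ∀ {u : ι → F₀} {τ : F}, RPair hR s u → Rt f (rv P s) (τ • rv P u) 0 ∈ M → τ ∈ F₀ :=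
      fun hp hm => by_contra fun hn => hcon (fin hp hn hm)
    have h5 := add_mem (add_mem (hin p₁ e₁) (hin p₂ e₂)) (hin p₃ (by rw [rv_add]; exact e₃))
    have h6 : a ^ 2 * (a ^ 2 + a * b₁ + b₁ ^ 2 + 1) + a ^ 2 * (a ^ 2 + a * b₂ + b₂ ^ 2 + 1) +
        a ^ 2 * (a ^ 2 + a * (b₁ + b₂) + (b₁ + b₂) ^ 2 + 1) = (a ^ 2 + a) ^ 2 := by
      rw [CharTwo.add_sq b₁, CharTwo.add_sq (a ^ 2)]
      linear_combination
        (a ^ 4 + a ^ 3 * (b₁ + b₂) + a ^ 2 * (b₁ ^ 2 + b₂ ^ 2) + a ^ 2) * CharTwo.two_eq_zero (R := F)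
    rw [h6] at h5
    rcases h01 (hsqF h5) with e | e
    · exact hs' (by linear_combination (a ^ 2 - a + 1) * e - a * CharTwo.two_eq_zero (R := F))
    · exact hs' (by linear_combination (a ^ 2 - a + 2) * e - (2 * a - 1) * CharTwo.two_eq_zero (R := F))
  -- the field of four elements
  have hF4 : ∀ {a : F}, a ∉ F₀ → a ^ 2 + a = 1 := fun {a} ha => by
    rcases eq_or_ne (a ^ 2 + a) 0 with e | e
    · rw [sq, ← mul_add_one, mul_eq_zero] at e
      rcases e with e | e
      · exact absurd (e ▸ zero_mem F₀) ha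
      · exact absurd (CharTwo.add_eq_zero.mp e ▸ one_mem F₀) ha
    · have h1 : (a ^ 2 + a) * (a ^ 2 + a + 1) = 0 := by
        linear_combination hall a + (a ^ 3 + a ^ 2 + a) * CharTwo.two_eq_zero (R := F)
      exact CharTwo.add_eq_zero.mp ((mul_eq_zero.mp h1).resolve_left e)
  obtain ⟨a, ha⟩ : ∃ a, a = f v (rv P s) := ⟨_, rfl⟩
  rw [← ha] at hs
  obtain ⟨t₀, ht₀⟩ := exists_ratio_notMem hf hR hv (l := a) (fun e => hs (e ▸ zero_mem F₀))
  obtain ⟨t, ht⟩ : ∃ t, f v (rv P t) = a + 1 := by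
    have hone : ∀ t, f v (rv P t) ∈ F₀ → f v (rv P t) ≠ 0 → f v (rv P (t + s)) = a + 1 := fun t h h' => by
      rw [rv_add, add_right' hf, ← ha, (h01 h).resolve_left h', add_comm]
    obtain ⟨b, hb⟩ : ∃ b, b = f v (rv P t₀) := ⟨_, rfl⟩
    rw [← hb] at ht₀
    by_cases hb0 : b ∈ F₀
    · exact ⟨_, hone t₀ (hb ▸ hb0) (fun e => ht₀ (by rw [hb, e, zero_div]; exact zero_mem F₀))⟩
    · refine ⟨t₀, hb ▸ ?_⟩
      have h1 : (b + a) * (b + a + 1) = 0 := by
        linear_combination hF4 hb0 + hF4 hs + (b * a + 1) * CharTwo.two_eq_zero (R := F)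
      rcases mul_eq_zero.mp h1 with e | e
      · exact absurd (by rw [CharTwo.add_eq_zero.mp e, div_self (fun h => hs (by rw [h]; exact zero_mem F₀))]
                         exact one_mem F₀) ht₀
      · rw [add_assoc] at e
        exact CharTwo.add_eq_zero.mp e
  have hval : ∀ {s t : ι → F₀}, f v (rv P s) = a → f v (rv P t) = a + 1 → rForm hR s t = 0 →
      ∃ (s : ι → F₀) (c : F), s ≠ 0 ∧ c ∉ F₀ ∧ sT f (rv P s) c ∈ M := fun {s t} hsa hta hst => by
    have hp : RPair hR s t := by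
      refine ⟨hst, fun hm => ?_, fun e => ?_⟩
      · obtain ⟨j, hj⟩ := Submodule.mem_span_singleton.mp hm
        rw [← hj, rv_smul, smul_right' hf, hta] at hsa
        rcases h01 j.2 with e | e <;> rw [e] at hsa
        · exact hs (by rw [← hsa, zero_mul]; exact zero_mem F₀)
        · rw [one_mul, add_eq_left] at hsa
          exact one_ne_zero hsa
      · rw [e, rv_zero, zero_right' hf, eq_comm] at hta
        exact hs (CharTwo.add_eq_zero.mp hta ▸ one_mem F₀)
    refine fin hp (fun hm => hs (hsqF ?_)) (plane_elts hf hR h4 hM hvM hp).2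
    rw [hsa, hta] at hm
    convert hm using 1
    linear_combination (-a ^ 2) * hF4 hs + (-(a ^ 4 + a ^ 3 + a ^ 2)) * CharTwo.two_eq_zero (R := F)
  by_contra hcon
  have hst : ∀ s' t', f v (rv P s') = a → f v (rv P t') = a + 1 → rForm hR s' t' ≠ 0 :=
    fun s' t' h1 h2 h3 => hcon (hval h1 h2 h3)
  have hone : ∀ s' t', f v (rv P s') = a → f v (rv P t') = a + 1 → rForm hR s' t' = 1 := fun s' t' h1 h2 =>
    hq _ (hst s' t' h1 h2)
  -- a rational vector with zero value
  obtain ⟨k, hk0, hk⟩ : ∃ k : ι → F₀, k ≠ 0 ∧ f v (rv P k) = 0 := by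
    classical
    by_contra hno
    have hinj : Function.Injective fun k : ι → F₀ => f v (rv P k) := fun x y e => by
      by_contra hne
      refine hno ⟨x + y, fun e' => hne ?_, ?_⟩
      · rw [← neg_vec (ι := ι) y]; exact eq_neg_of_add_eq_zero_left e'
      · rw [rv_add, add_right' hf, show f v (rv P x) = f v (rv P y) from e, CharTwo.add_self_eq_zero]
    have h16 : 16 ≤ Fintype.card (ι → F₀) := by
      rw [Fintype.card_fun, h4]
      exact le_trans (by norm_num : 16 ≤ 2 ^ 4) (Nat.pow_le_pow_left Fintype.one_lt_card 4)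
    have h4F : Fintype.card F ≤ 4 := by
      rw [← Finset.card_univ]
      refine le_trans (Finset.card_le_card (t := {0, 1, a, a + 1}) fun x _ => ?_) Finset.card_le_four
      by_cases hx : x ∈ F₀
      · rcases h01 hx with rfl | rfl <;> simp
      · have h1 : (x + a) * (x + a + 1) = 0 := by
          linear_combination hF4 hx + hF4 hs + (x * a + 1) * CharTwo.two_eq_zero (R := F)
        rcases mul_eq_zero.mp h1 with e | e
        · simp [CharTwo.add_eq_zero.mp e]
        · rw [add_assoc] at e; simp [CharTwo.add_eq_zero.mp e]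
    have := Fintype.card_le_of_injective _ hinj
    omega
  -- it is orthogonal to everything
  have hks : ∀ s' t', f v (rv P s') = a → f v (rv P t') = a + 1 → rForm hR k t' = 0 ∧ rForm hR s' k = 0 := by
    intro s' t' h1 h2
    have h3 := hone (s' + k) t' (by rw [rv_add, add_right' hf, h1, hk, add_zero]) h2
    have h4' := hone s' (t' + k) h1 (by rw [rv_add, add_right' hf, h2, hk, add_zero])
    rw [add_left' hB, hone s' t' h1 h2, add_eq_left] at h3
    rw [add_right' hB, hone s' t' h1 h2, add_eq_left] at h4'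
    exact ⟨h3, h4'⟩
  obtain ⟨hkt, hsk⟩ := hks s t ha.symm ht
  obtain ⟨y, hy⟩ := (hB.nondegenerate k hk0).1
  refine hy ?_
  have hzero : ∀ y, f v (rv P y) = 0 → rForm hR y k = 0 := fun y hy' => by
    have h1 := (hks (s + y) t (by rw [rv_add, add_right' hf, ← ha, hy', add_zero]) ht).2
    rwa [add_left' hB, hsk, zero_add] at h1
  have htk : rForm hR t k = 0 := by rw [hB.skew, hkt, neg_zero]
  obtain ⟨b, hb⟩ : ∃ b, b = f v (rv P y) := ⟨_, rfl⟩
  by_cases hb0 : b ∈ F₀
  · rcases h01 hb0 with e | e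
    · exact hzero y (hb.symm.trans e)
    · have := hzero (y + s + t) (by
        rw [rv_add, rv_add, add_right' hf, add_right' hf, ← ha, ht, ← hb, e]
        linear_combination (1 + a) * CharTwo.two_eq_zero (R := F))
      rwa [add_left' hB, add_left' hB, hsk, htk, add_zero, add_zero] at this
  · have h1 : (b + a) * (b + a + 1) = 0 := by
      linear_combination hF4 hb0 + hF4 hs + (b * a + 1) * CharTwo.two_eq_zero (R := F)
    rcases mul_eq_zero.mp h1 with e | e
    · have := hzero (y + s) (by rw [rv_add, add_right' hf, ← ha, ← hb, e])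
      rwa [add_left' hB, hsk, add_zero] at this
    · have := hzero (y + t) (by rw [rv_add, add_right' hf, ht, ← hb, ← add_assoc, e])
      rwa [add_left' hB, htk, add_zero] at this

/-- A group containing the rational symplectic group and a non-rational transvection contains every transvection. -/
theorem all_full [Finite F] : ∀ x, Full f M x := by
  classical
  haveI := Fintype.ofFinite F
  haveI : Fintype F₀ := Fintype.ofFinite F₀
  haveI : CharP F₀ 2 := CharTwo.of_one_ne_zero_of_two_eq_zero one_ne_zero (Subtype.ext CharTwo.two_eq_zero)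
  have hB := isSymplectic_rForm hf hR
  have hallR : ∀ w, Full (rForm hR) (M.comap (subfieldHom F₀ P)) w := fun w c => hM _ (iso_sT hB w c)
  obtain ⟨A, hA⟩ : ∃ A : Set F, ∀ l, l ∈ A ↔ ∀ r : ι → F₀, sT f (rv P r) l ∈ M :=
    ⟨{l | ∀ r : ι → F₀, sT f (rv P r) l ∈ M}, fun _ => Iff.rfl⟩
  have moveA : ∀ (r : ι → F₀) (l : F), r ≠ 0 → sT f (rv P r) l ∈ M → l ∈ A := by
    intro r l hr hm
    rw [hA]
    intro r'
    by_cases hr' : r' = 0
    · rw [hr', rv_zero]; exact full_zero hf (M := M) l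
    obtain ⟨h, hh, hi, he, -⟩ := exists_move_fix hB hallR (⊥ : Submodule F₀ (ι → F₀)) (v := r) (b := r')
      (by simpa using hr) (by simpa using hr')
      (fun e he => by rw [(Submodule.mem_bot F₀).mp he, zero_left' hB, zero_left' hB])
    have h1 := sT_mem_conj hf (Subgroup.mem_comap.mp hh) (iso_hom hf hR hi) hm
    rwa [hom_rv, he] at h1
  have hA0 : ∀ c : F₀, (c : F) ∈ A := fun c => (hA _).mpr fun r => sT_rat hf hR hM r c
  have hA1 : (1 : F) ∈ A := by simpa using hA0 1
  have hAadd : ∀ {a b}, a ∈ A → b ∈ A → a + b ∈ A := fun ha hb => (hA _).mpr fun r => by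
    rw [← sT_mul hf]; exact M.mul_mem ((hA _).mp ha r) ((hA _).mp hb r)
  have hAs : ∀ {b a}, b ∈ F₀ → a ∈ A → b * a ∈ A := fun {b a} hb ha => (hA _).mpr fun r => by
    obtain ⟨q, hq⟩ := FiniteField.isSquare_of_char_two (ringChar.eq F₀ 2) (⟨b, hb⟩ : F₀)
    have h1 := (hA _).mp ha (q • r)
    rw [rv_smul, sT_smul hf] at h1
    have : b = (q : F) * q := congrArg Subtype.val hq
    rwa [this, ← sq]
  -- short elements
  have hshort : ∀ {a}, a ∈ A → ∀ s u : ι → F₀, rForm hR s u = 0 → Rt f (rv P s) (a • rv P u) 0 ∈ M := by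
    intro a ha s u hsu
    have h1 := (hA _).mp ha (u + s)
    rw [rv_add, show rv P u + rv P s = rv P u + (1 : F) • rv P s by rw [one_smul],
      sT_add hf (congrArg Subtype.val hsu : f (rv P s) (rv P u) = 0), one_mul, one_pow, one_mul] at h1
    have h2 := M.mul_mem ((M.mul_mem_cancel_left ((hA _).mp ha u)).mp h1) ((hA _).mp ha s)
    rwa [Rt_mul_sT hf (by rw [smul_right' hf, show f (rv P s) (rv P u) = 0 from congrArg Subtype.val hsu, mul_zero]),
      CharTwo.add_self_eq_zero] at h2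
  -- the basic rule
  have hnd : ∀ w ∈ (⊤ : Submodule F₀ (ι → F₀)), w ≠ 0 → ∃ z ∈ (⊤ : Submodule F₀ (ι → F₀)), rForm hR z w ≠ 0 :=
    fun w _ hw => by obtain ⟨z, hz⟩ := (hB.nondegenerate w hw).1; exact ⟨z, trivial, hz⟩
  obtain ⟨e, g, hfr, -, -⟩ := exists_frame hB 2 hnd (by rw [finrank_top, Module.finrank_fintype_fun_eq_card]; omega)
  have rule : ∀ {a c}, a ∈ A → c ∈ A → a ^ 2 * (c + c ^ 2) ∈ A := by
    intro a c ha hc
    obtain ⟨E0, hE0⟩ : ∃ E, E = rv P (e 0) := ⟨_, rfl⟩
    obtain ⟨E1, hE1⟩ : ∃ E, E = rv P (e 1) := ⟨_, rfl⟩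
    obtain ⟨G1, hG1⟩ : ∃ E, E = rv P (g 1) := ⟨_, rfl⟩
    have e01 : f E0 E1 = 0 := hE0 ▸ hE1 ▸ congrArg Subtype.val (hfr.ee 0 1)
    have g01 : f E0 G1 = 0 := by
      have := congrArg Subtype.val (hfr.eg 0 1)
      simpa [rForm, hE0, hG1] using this
    have g11 : f E1 G1 = 1 := by
      have := congrArg Subtype.val (hfr.eg 1 1)
      simpa [rForm, hE1, hG1] using this
    have G10 : f G1 E0 = 0 := by rw [form_comm hf, g01]
    have G11 : f G1 E1 = 1 := by rw [form_comm hf, g11]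
    have hX : Rt f E0 (a • E1) 0 ∈ M := hE0 ▸ hE1 ▸ hshort ha _ _ (hfr.ee 0 1)
    have hTc : sT f G1 c ∈ M := hG1 ▸ (hA _).mp hc _
    have p1 := sT_mem_conj hf hX (iso_Rt hf _ _ _) hTc
    rw [Rt_mulVec hf (by rw [smul_right' hf, e01, mul_zero]), G10, smul_right' hf, G11, zero_smul, add_zero,
      mul_one, mul_zero, zero_smul, add_zero, sT_add hf g01] at p1
    have hP1 : Rt f E0 ((a * c) • G1) (a ^ 2 * c) ∈ M := (M.mul_mem_cancel_left hTc).mp p1
    have hTE : sT f E1 1 ∈ M := by simpa [hE1] using sT_rat hf hR hM (e 1) 1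
    have hTG : sT f G1 1 ∈ M := by simpa [hG1] using sT_rat hf hR hM (g 1) 1
    have hP3 := Rt_mem_conj hf hTE (iso_sT hf _ _) hP1
    rw [sT_fix hf e01, mulVec_smul, sT_mulVec hf, G11, mul_one, one_smul] at hP3
    have hP2 := Rt_mem_conj hf hTG (iso_sT hf _ _) hP3
    rw [sT_fix hf g01, mulVec_smul, sT_mulVec hf, add_left' hf, hf.alternating, g11, zero_add, mul_one, one_smul,
      show G1 + E1 + G1 = E1 + (G1 + G1) by abel, add_vec, add_zero] at hP2
    have q1 : f E0 ((a * c) • G1) = 0 := by rw [smul_right' hf, g01, mul_zero]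
    have q2 : f E0 ((a * c) • E1) = 0 := by rw [smul_right' hf, e01, mul_zero]
    have h3 := M.mul_mem (M.mul_mem hP1 hP2) hP3
    rw [Rt_mul hf q1 q2, ← smul_add,
      Rt_mul hf (by rw [smul_add, add_right' hf, q1, q2, add_zero]) (by rw [smul_add, add_right' hf, q1, q2, add_zero]),
      add_vec, Rt_zero hf, hf.alternating, smul_left' hf, smul_right' hf, G11] at h3
    refine moveA (e 0) _ (fun h0 => ?_) ?_
    · have h1 := hfr.eg 0 0
      rw [if_pos rfl, h0, zero_left' hB] at h1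
      exact zero_ne_one h1
    · rw [← hE0]
      convert h3 using 2
      linear_combination (-(a ^ 2 * c)) * CharTwo.two_eq_zero (R := F)
  have hsq : ∀ {c}, c ∈ A → c ^ 2 ∈ A := fun {c} hc => by
    have := hAadd (rule hA1 hc) hc
    rwa [one_pow, one_mul, show c + c ^ 2 + c = c ^ 2 + (c + c) by ring, CharTwo.add_self_eq_zero, add_zero] at this
  have hroot : ∀ {d}, d ∈ A → ∃ a ∈ A, a ^ 2 = d := fun {d} hd => by
    have hinj : Function.Injective (fun z : A => (⟨(z : F) ^ 2, hsq z.2⟩ : A)) := fun z z' h =>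
      Subtype.ext (CharTwo.sq_injective (congrArg Subtype.val h))
    obtain ⟨z, hz⟩ := Finite.injective_iff_surjective.mp hinj ⟨d, hd⟩
    exact ⟨z, z.2, congrArg Subtype.val hz⟩
  obtain ⟨s₀, c₀, hs₀, hc₀, hm₀⟩ := exists_long hf hR h4 hM hvM hv hgen
  have hcA : c₀ ∈ A := moveA s₀ c₀ hs₀ hm₀
  -- all parameters
  let R : Subfield F :=
    { carrier := {z | ∀ b ∈ A, z * b ∈ A}
      one_mem' := fun b hb => by rwa [one_mul]
      mul_mem' := fun {a c} ha hc b hb => by rw [mul_assoc]; exact ha _ (hc b hb)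
      zero_mem' := fun b _ => by rw [zero_mul]; exact hA0 0
      add_mem' := fun {a c} ha hc b hb => by rw [add_mul]; exact hAadd (ha b hb) (hc b hb)
      neg_mem' := fun {a} ha b hb => by rw [CharTwo.neg_eq]; exact ha b hb
      inv_mem' := by
        intro a ha b hb
        by_cases h0 : a = 0
        · rw [h0, _root_.inv_zero, zero_mul]; exact hA0 0
        have hinj : Function.Injective (fun z : A => (⟨a * z, ha _ z.2⟩ : A)) := fun z z' h =>
          Subtype.ext (mul_left_cancel₀ h0 (congrArg Subtype.val h))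
        obtain ⟨⟨z, hz⟩, hzb⟩ := Finite.injective_iff_surjective.mp hinj ⟨b, hb⟩
        rw [← show a * z = b from congrArg Subtype.val hzb, inv_mul_cancel_left₀ h0]
        exact hz }
  have hRF : F₀ ≤ R := fun b hb a ha => hAs hb ha
  have hRc : ∀ {c}, c ∈ A → c + c ^ 2 ∈ R := fun {c} hc d hd => by
    obtain ⟨a, ha, rfl⟩ := hroot hd
    rw [mul_comm]
    exact rule ha hc
  have hall : ∀ x : F, x ∈ A := by
    by_cases hex : ∃ c ∈ A, c + c ^ 2 ∉ F₀
    · obtain ⟨c, hc, hc'⟩ := hex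
      have htop := hgen R (lt_of_le_not_ge hRF fun h => hc' (h (hRc hc)))
      intro x
      have hx : x ∈ R := by rw [htop]; trivial
      simpa using hx 1 hA1
    simp only [not_exists, not_and, not_not] at hex
    have h01 : ∀ {b : F}, b ∈ F₀ → b = 0 ∨ b = 1 := fun {b} hb => by
      by_contra hne
      simp only [not_or] at hne
      have h1 := sub_mem (hex _ (hAs hb hcA)) (mul_mem (mul_mem hb hb) (hex _ hcA))
      have h2 : b * (1 + b) ≠ 0 := mul_ne_zero hne.1 fun e => hne.2 (CharTwo.add_eq_zero.mp e).symm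
      have h3 := div_mem h1 (mul_mem hb (add_mem (one_mem F₀) hb))
      rw [show b * c₀ + (b * c₀) ^ 2 - b * b * (c₀ + c₀ ^ 2) = b * (1 - b) * c₀ by ring, CharTwo.sub_eq_add,
        mul_div_cancel_left₀ _ h2] at h3
      exact hc₀ h3
    have hc1 : c₀ + c₀ ^ 2 = 1 := (h01 (hex _ hcA)).resolve_left fun e => by
      rw [sq, ← one_add_mul, mul_eq_zero] at e
      rcases e with e | e
      · exact hc₀ ((CharTwo.add_eq_zero.mp e).symm ▸ one_mem F₀)
      · exact hc₀ (e ▸ zero_mem F₀)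
    intro x
    by_cases hx : x = 0 ∨ x = 1 ∨ x = c₀ ∨ x = c₀ + 1
    · rcases hx with rfl | rfl | rfl | rfl
      · simpa using hA0 0
      · exact hA1
      · exact hcA
      · exact hAadd hcA hA1
    exfalso
    simp only [not_or] at hx
    let E : Subfield F :=
      { carrier := {x | x ^ 4 = x}
        one_mem' := one_pow 4
        mul_mem' := fun {a b} (ha : a ^ 4 = a) (hb : b ^ 4 = b) => by
          change (a * b) ^ 4 = a * b
          rw [mul_pow, ha, hb]
        zero_mem' := zero_pow (by norm_num)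
        add_mem' := fun {a b} (ha : a ^ 4 = a) (hb : b ^ 4 = b) => by
          change (a + b) ^ 4 = a + b
          rw [show (4 : ℕ) = 2 * 2 by norm_num, pow_mul, CharTwo.add_sq, CharTwo.add_sq, ← pow_mul, ← pow_mul]
          exact congrArg₂ (· + ·) ha hb
        neg_mem' := fun {a} ha => by rw [CharTwo.neg_eq]; exact ha
        inv_mem' := fun a (ha : a ^ 4 = a) => by
          change a⁻¹ ^ 4 = a⁻¹
          rw [inv_pow, ha] }
    have hcE : c₀ ∈ E := by
      change c₀ ^ 4 = c₀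
      linear_combination (c₀ ^ 2 - c₀ + 2) * hc1 + (1 - 2 * c₀) * CharTwo.two_eq_zero (R := F)
    have hE : F₀ < E := lt_of_le_not_ge (fun b hb => by
      rcases h01 hb with rfl | rfl
      · exact zero_mem E
      · exact one_mem E) fun h => hc₀ (h hcE)
    have hxE : x ^ 4 = x := (hgen E hE ▸ Subfield.mem_top x : x ∈ E)
    have h1 : x * (x + 1) * ((x + c₀) * (x + (c₀ + 1))) = 0 := by
      linear_combination hxE + (x ^ 2 + x) * hc1 + (x ^ 3 * c₀ + x ^ 2 * c₀ + x ^ 3 + x ^ 2 + x) * CharTwo.two_eq_zero (R := F)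
    simp only [mul_eq_zero, CharTwo.add_eq_zero] at h1
    tauto
  have hfullr : ∀ w : ι → F₀, Full f M (rv P w) := fun w c => (hA c).mp (hall c) w
  -- spreading
  have hstep : ∀ x (w : ι → F₀) (d : F), Full f M x → Full f M (x + d • rv P w) := by
    intro x w d hx
    have hw := hfullr w
    by_cases h : f x (rv P w) = 0
    swap
    · exact full_add_smul hf hx hw h d
    by_cases hw0 : w = 0
    · rw [hw0, rv_zero, smul_zero, add_zero]; exact hx
    by_cases hex : ∃ w', rForm hR w w' = 0 ∧ f x (rv P w') ≠ 0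
    · obtain ⟨w', hww', hxw'⟩ := hex
      have hmem := hshort (hall (d / f x (rv P w'))) w w' hww'
      have h1 := full_conj hf hmem (iso_Rt hf _ _ _) hx
      rwa [Rt_mulVec hf (by rw [smul_right' hf, show f (rv P w) (rv P w') = 0 from congrArg Subtype.val hww', mul_zero]),
        h, zero_smul, add_zero, smul_right' hf, mul_zero, zero_smul, add_zero, div_mul_cancel₀ d hxw'] at h1
    simp only [not_exists, not_and, not_not] at hex
    -- then x is a multiple of the rational vector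
    obtain ⟨z, hz⟩ : ∃ z, rForm hR w z ≠ 0 := (hB.nondegenerate w hw0).2
    have hz' : f (rv P w) (rv P z) ≠ 0 := fun h0 => hz (Subtype.ext h0)
    obtain ⟨k, hk⟩ : ∃ k, k = f x (rv P z) / f (rv P w) (rv P z) := ⟨_, rfl⟩
    have hxk : x = k • rv P w := by
      refine sub_eq_zero.mp (eq_zero_of_rv (F₀ := F₀) (P := P) hf fun u => ?_)
      have h2 := hex (u - (rForm hR w u / rForm hR w z) • z) (by
        rw [sub_right' hB, smul_right' hB, div_mul_cancel₀ _ hz, sub_self])
      have hrv : rv P (u - (rForm hR w u / rForm hR w z) • z) =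
          rv P u - ((rForm hR w u / rForm hR w z : F₀) : F) • rv P z :=
        eq_sub_of_add_eq (by rw [← rv_smul, ← rv_add, sub_add_cancel])
      rw [hrv, sub_right' hf, smul_right' hf] at h2
      rw [hf.skew, sub_left' hf, smul_left' hf, hk]
      simp only [rForm, Subfield.coe_div] at h2
      field_simp at h2 ⊢
      linear_combination -h2
    rw [hxk, ← add_smul]
    exact full_smul hf hw _
  intro x
  have hspan : ∀ (y : ι → F) (w : Finset ι), Full f M (∑ i ∈ w, y i • rv P (Pi.single i 1 : ι → F₀)) := by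
    intro y w
    induction w using Finset.induction_on with
    | empty => rw [Finset.sum_empty]; exact full_zero hf
    | @insert i w hi ih => rw [Finset.sum_insert hi, add_comm]; exact hstep _ _ _ ih
  obtain ⟨y, rfl⟩ : ∃ y, (P : Matrix ι ι F) *ᵥ y = x := ⟨_, mulVec_inv_cancel P x⟩
  have hy : (P : Matrix ι ι F) *ᵥ y = ∑ i, y i • rv P (Pi.single i 1 : ι → F₀) := by
    simp only [rv, coeVec_single, ← mulVec_smul, ← mulVec_sum]
    congr 1
    funext j
    simp [Finset.sum_apply, Pi.single_apply]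
  rw [hy]
  exact hspan y _

end CfsgLib.SpFour
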